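import Groth.Agent.Lib.ExtTilde20.Affine
import Groth.Agent.Lib.Depth.Local
import Groth.Agent.Lib.Depth.CM
import Groth.Agent.Lib.Faltings.Transfer
import Groth.Agent.Lib.FlatFP.Sheaf
import Groth.Agent.Lib.QCoh.Support
import Groth.Agent.Lib.OX.Support
import Groth.Agent.Lib.QCoh.Pieces

/-! # Depth of stalks and vanishing of local Ext -/

set_option autoImplicit false
set_option maxHeartbeats 400000
set_option linter.style.haveILetI false

universe u

open CategoryTheory CategoryTheory.Limits AlgebraicGeometry Opposite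

namespace GrothLib.DepthExt20

section Algebra

variable {A : Type u} [CommRing A] [IsNoetherianRing A] {M : Type u} [AddCommGroup M] [Module A M] [Module.Finite A M]

theorem depth_eq_of_isLocalization (p : Ideal A) [p.IsPrime] (S : Type u) [CommRing S] [Algebra A S]
    [IsLocalization.AtPrime S p] [IsLocalRing S] (N : Type u) [AddCommGroup N] [Module A N] [Module S N]
    [IsScalarTower A S N] (g : M →ₗ[A] N) [IsLocalizedModule p.primeCompl g] :
    LocCoh.depth (Localization.AtPrime p) (LocalizedModule p.primeCompl M) = LocCoh.depth S N := by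
  let P := Localization.AtPrime p
  let e : P ≃ₐ[A] S := IsLocalization.algEquiv p.primeCompl P S
  letI : Algebra P S := e.toAlgHom.toRingHom.toAlgebra
  haveI : IsScalarTower A P S := IsScalarTower.of_algebraMap_eq fun a => (e.commutes a).symm
  haveI : IsNoetherianRing P := GrothLib.Depth.isNoetherian_atPrime p
  haveI : IsNoetherianRing S := IsLocalization.isNoetherianRing p.primeCompl S inferInstance
  letI : Module P N := Module.compHom N (algebraMap P S)
  haveI : IsScalarTower P S N := IsScalarTower.of_algebraMap_smul fun _ _ => rfl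
  haveI : IsScalarTower A P N := IsScalarTower.of_algebraMap_smul fun a x => by
    show algebraMap P S (algebraMap A P a) • x = a • x
    rw [← IsScalarTower.algebraMap_apply, algebraMap_smul]
  let i : LocalizedModule p.primeCompl M ≃ₗ[P] N :=
    LinearEquiv.extendScalarsOfIsLocalization p.primeCompl P
      (IsLocalizedModule.linearEquiv p.primeCompl (LocalizedModule.mkLinearMap p.primeCompl M) g)
  haveI : Module.Finite P (LocalizedModule p.primeCompl M) :=
    Module.Finite.of_isLocalizedModule p.primeCompl (LocalizedModule.mkLinearMap p.primeCompl M)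
  haveI : Module.Finite P N := Module.Finite.equiv i
  haveI : Module.Finite S N := Module.Finite.of_restrictScalars_finite P S N
  exact (GrothLib.Depth.idealDepth_eq_of_equiv _ i).trans
    (GrothLib.Faltings.depth_eq_of_surjective (A := P) (A' := S) e.surjective N)

variable (N : Type u) [AddCommGroup N] [Module A N] [Module.Finite A N]

theorem subsingleton_ext_of_le_idealDepth {n : ℕ}
    (h : (n : ℕ∞) ≤ LocCoh.idealDepth (Module.annihilator A N) M) (i : ℕ) (hi : i < n) :
    Subsingleton (Abelian.Ext (ModuleCat.of A N) (ModuleCat.of A M) i) :=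
  LC.subsingleton_ext_of_H (Module.annihilator A N) (G := ModuleCat.of A M)
    ((Depth.le_idealDepth_iff_H _ n).1 h) i hi _ inferInstance ⟨1, by rw [pow_one]⟩

theorem le_idealDepth_of_subsingleton_ext {n : ℕ}
    (h : ∀ i < n, Subsingleton (Abelian.Ext (ModuleCat.of A N) (ModuleCat.of A M) i)) :
    (n : ℕ∞) ≤ LocCoh.idealDepth (Module.annihilator A N) M := by
  by_cases hIM : Module.annihilator A N • (⊤ : Submodule A M) = ⊤
  · rw [LocCoh.idealDepth, if_pos hIM]; exact le_top
  rw [Depth.le_idealDepth_iff_exists _ hIM]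
  obtain ⟨rs, h1, h2, h3⟩ := ModuleCat.exists_isRegular_of_exists_subsingleton_ext (Module.annihilator A N) n
    (ModuleCat.of A M) (lt_top_iff_ne_top.2 hIM) (ModuleCat.of A N)
    (Module.support_eq_zeroLocus (R := A) (M := N)) h
  exact ⟨rs, h1, h2, h3.toIsWeaklyRegular⟩

theorem le_idealDepth_of_forall_depth {n : ℕ} (I : Ideal A)
    (h : ∀ p : PrimeSpectrum A, I ≤ p.asIdeal →
      (n : ℕ∞) ≤ LocCoh.depth (Localization.AtPrime p.asIdeal) (LocalizedModule p.asIdeal.primeCompl M)) :
    (n : ℕ∞) ≤ LocCoh.idealDepth I M := by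
  by_contra hlt
  obtain ⟨d, hd⟩ := ENat.ne_top_iff_exists.1 (ne_top_of_lt (not_le.1 hlt))
  obtain ⟨p, hIp, hp⟩ := Depth.exists_depth_localization_le I d hd.symm
  exact hlt ((h p hIp).trans (hp.trans hd.le))

end Algebra

variable {X : Scheme.{u}} [IsLocallyNoetherian X]

theorem depth_stalk_eq (F : X.Modules) (hF : Coh.IsCoh F) {U : X.Opens} (hU : IsAffineOpen U) {x : X} (hx : x ∈ U) :
    LocCoh.depth (X.presheaf.stalk x) (F.presheaf.stalk x) =
      LocCoh.depth (Localization.AtPrime (WeakAss.primeAt x hx))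
        (LocalizedModule (WeakAss.primeAt x hx).primeCompl Γ(F, U)) := by
  haveI := hF.1
  haveI : IsNoetherianRing Γ(X, U) := IsLocallyNoetherian.component_noetherian ⟨U, hU⟩
  haveI : Module.Finite Γ(X, U) Γ(F, U) := QCoh.moduleFinite_of_isFiniteType F hF.2 hU
  letI := X.presheaf.algebra_section_stalk ⟨x, hx⟩
  haveI := FlatFP.isLocalization_stalk_primeAt hU hx
  letI : Module Γ(X, U) (F.presheaf.stalk x) := Module.compHom _ (X.presheaf.germ U x hx).hom
  haveI : IsScalarTower Γ(X, U) (X.presheaf.stalk x) (F.presheaf.stalk x) :=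
    IsScalarTower.of_algebraMap_smul fun _ _ => rfl
  obtain ⟨g, hg, -⟩ := FlatFP.isLocalizedModule_germ F hU hx
  exact (depth_eq_of_isLocalization (WeakAss.primeAt x hx) (X.presheaf.stalk x) (F.presheaf.stalk x) g).symm

variable [∀ M : X.Modules, ModSite.HasSheafHom (O := X.sheaf) M] [HasInjectiveResolutions (ModSite.Mod X.sheaf)]
  {G F : X.Modules}

theorem subsingleton_ext_sections (hG : Coh.IsCoh G) (hF : Coh.IsCoh F) {U : X.Opens} (hU : IsAffineOpen U) (i : ℕ)
    (h : IsZero ((ModSite.extSh (O := X.sheaf) G i).obj F)) :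
    Subsingleton (Abelian.Ext (ExtTilde20.secMod (U := U) G) (ExtTilde20.secMod (U := U) F) i) := by
  haveI := hG.1
  haveI := hF.1
  haveI : IsNoetherianRing Γ(X, U) := IsLocallyNoetherian.component_noetherian ⟨U, hU⟩
  haveI : Module.Finite Γ(X, U) Γ(G, U) := QCoh.moduleFinite_of_isFiniteType G hG.2 hU
  obtain ⟨a⟩ := ExtTilde20.nonempty_restrict_extSh_iso hU G F i
  have hR : (Scheme.Modules.restrictFunctor hU.fromSpec).Additive := HomRestrict20.additive_restrictFunctor _
  have hz := ((Scheme.Modules.restrictFunctor hU.fromSpec).map_isZero h).of_iso a.symm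
  have h0 := ((tilde.functor Γ(X, U)).map_eq_zero_iff.1 (hz.eq_of_src ((tilde.functor Γ(X, U)).map
    (𝟙 (ModuleCat.of Γ(X, U) (Abelian.Ext (ExtTilde20.secMod (U := U) G) (ExtTilde20.secMod (U := U) F) i)))) 0))
  exact subsingleton_of_forall_eq 0 fun e => congrArg (fun f => f e) h0

theorem isZero_extSh_of_sections (hG : Coh.IsCoh G) (hF : Coh.IsCoh F) (i : ℕ)
    (h : ∀ U : X.Opens, IsAffineOpen U →
      Subsingleton (Abelian.Ext (ExtTilde20.secMod (U := U) G) (ExtTilde20.secMod (U := U) F) i)) :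
    IsZero ((ModSite.extSh (O := X.sheaf) G i).obj F) := by
  haveI := hG.1
  haveI := hF.1
  refine OX.isZero_of_subsingleton_stalks ((ModSite.extSh (O := X.sheaf) G i).obj F) fun x => ?_
  obtain ⟨_, ⟨U, hU, rfl⟩, hxU, -⟩ := X.isBasis_affineOpens.exists_subset_of_mem_open (Set.mem_univ x) isOpen_univ
  obtain ⟨y, rfl⟩ : ∃ y, hU.fromSpec y = x := by
    have h : x ∈ Set.range hU.fromSpec := by rw [hU.range_fromSpec]; exact hxU
    exact h
  haveI : IsNoetherianRing Γ(X, U) := IsLocallyNoetherian.component_noetherian ⟨U, hU⟩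
  haveI : Module.Finite Γ(X, U) Γ(G, U) := QCoh.moduleFinite_of_isFiniteType G hG.2 hU
  obtain ⟨a⟩ := ExtTilde20.nonempty_restrict_extSh_iso hU G F i
  have hs := h U hU
  have hz := (((tilde.functor Γ(X, U)).map_isZero (ModuleCat.isZero_of_subsingleton _)).of_iso a)
  by_contra hne
  exact @OX.support_subset_of_isZero_restrict _ _ hU.fromSpec (IsAffineOpen.isOpenImmersion_fromSpec hU) _ hz _ hne ⟨y, rfl⟩

end GrothLib.DepthExt20

namespace GrothLib.DepthExt20

variable {X : Scheme.{u}}

theorem mem_support_pushUnit {Z : Scheme.{u}} (i : Z ⟶ X) (z : Z) :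
    i z ∈ CohB1.support (QCoh.pushUnit i) := by
  intro hs
  have h0 : (QCoh.pushUnit i).presheaf.germ ⊤ (i z) trivial (1 : Γ(Z, i ⁻¹ᵁ ⊤)) = 0 := @Subsingleton.elim _ hs _ _
  obtain ⟨W, hW, k, k', e⟩ := TopCat.Presheaf.germ_eq (QCoh.pushUnit i).presheaf (U := ⊤) (V := ⊤) (i z) trivial trivial
    (1 : Γ(Z, i ⁻¹ᵁ ⊤)) 0 (h0.trans (map_zero _).symm)
  rw [map_zero] at e
  have e' : (1 : Γ(Z, i ⁻¹ᵁ W)) = 0 :=
    (map_one (Z.presheaf.map ((TopologicalSpace.Opens.map i.base).map k).op).hom).symm.trans e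
  have h2 := congrArg (Z.presheaf.germ (i ⁻¹ᵁ W) z hW).hom e'
  rw [map_one, map_zero] at h2
  exact one_ne_zero h2

variable [IsLocallyNoetherian X] [∀ M : X.Modules, ModSite.HasSheafHom (O := X.sheaf) M]
  [HasInjectiveResolutions (ModSite.Mod X.sheaf)] {G F : X.Modules}

theorem le_depth_of_isZero_extSh (hG : Coh.IsCoh G) (hF : Coh.IsCoh F) {n : ℕ}
    (h : ∀ i : ℕ, i < n → IsZero ((ModSite.extSh (O := X.sheaf) G i).obj F))
    {x : X} (hx : x ∈ CohB1.support G) :
    (n : ℕ∞) ≤ LocCoh.depth (X.presheaf.stalk x) (F.presheaf.stalk x) := by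
  obtain ⟨_, ⟨U, hU, rfl⟩, hxU, -⟩ := X.isBasis_affineOpens.exists_subset_of_mem_open (Set.mem_univ x) isOpen_univ
  haveI := hG.1
  haveI : IsNoetherianRing Γ(X, U) := IsLocallyNoetherian.component_noetherian ⟨U, hU⟩
  haveI : Module.Finite Γ(X, U) Γ(G, U) := QCoh.moduleFinite_of_isFiniteType G hG.2 hU
  haveI := hF.1
  haveI : Module.Finite Γ(X, U) Γ(F, U) := QCoh.moduleFinite_of_isFiniteType F hF.2 hU
  rw [depth_stalk_eq F hF hU hxU]
  refine (le_idealDepth_of_subsingleton_ext Γ(G, U)
    fun i hi => subsingleton_ext_sections hG hF hU i (h i hi)).trans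
    (Depth.idealDepth_le_localization _ _ ?_)
  have hs := (QCoh.mem_support_iff_primeAt G hU hxU).1 hx
  rw [Module.support_eq_zeroLocus] at hs
  exact hs

theorem isZero_extSh_of_le_depth (hG : Coh.IsCoh G) (hF : Coh.IsCoh F) {n : ℕ}
    (h : ∀ x ∈ CohB1.support G, (n : ℕ∞) ≤ LocCoh.depth (X.presheaf.stalk x) (F.presheaf.stalk x))
    {i : ℕ} (hi : i < n) : IsZero ((ModSite.extSh (O := X.sheaf) G i).obj F) := by
  refine isZero_extSh_of_sections hG hF i fun U hU => ?_
  haveI := hG.1
  haveI : IsNoetherianRing Γ(X, U) := IsLocallyNoetherian.component_noetherian ⟨U, hU⟩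
  haveI : Module.Finite Γ(X, U) Γ(G, U) := QCoh.moduleFinite_of_isFiniteType G hG.2 hU
  haveI := hF.1
  haveI : Module.Finite Γ(X, U) Γ(F, U) := QCoh.moduleFinite_of_isFiniteType F hF.2 hU
  refine subsingleton_ext_of_le_idealDepth Γ(G, U) (le_idealDepth_of_forall_depth _ fun p hp => ?_) i hi
  obtain ⟨x, hx, hxp⟩ : ∃ (x : X) (hx : x ∈ U), WeakAss.primeAt x hx = p.asIdeal := by
    have hm : hU.fromSpec p ∈ U := by
      have : hU.fromSpec p ∈ Set.range hU.fromSpec := ⟨p, rfl⟩
      rwa [hU.range_fromSpec] at this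
    exact ⟨hU.fromSpec p, hm, WeakAss.primeAt_fromSpec hU p hm⟩
  have hs : x ∈ CohB1.support G := (QCoh.mem_support_iff_primeAt G hU hx).2 (by
    rw [Module.support_eq_zeroLocus, show (⟨WeakAss.primeAt x hx, inferInstance⟩ : PrimeSpectrum Γ(X, U)) = p from
      PrimeSpectrum.ext hxp]
    exact hp)
  have e := h x hs
  rw [depth_stalk_eq F hF hU hx] at e
  have hc : ∀ (q : Ideal Γ(X, U)) [q.IsPrime], q = p.asIdeal →
      (n : ℕ∞) ≤ LocCoh.depth (Localization.AtPrime q) (LocalizedModule q.primeCompl Γ(F, U)) →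
      (n : ℕ∞) ≤ LocCoh.depth (Localization.AtPrime p.asIdeal) (LocalizedModule p.asIdeal.primeCompl Γ(F, U)) := by
    rintro q _ rfl hq
    exact hq
  exact hc _ hxp e

end GrothLib.DepthExt20
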